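import Groth.Agent.S0103
import Groth.Agent.S0657
import Groth.Agent.S14381
import Groth.Agent.S14382
import Groth.Agent.H61.HpullFunct
import Groth.Agent.H61.HmapFunct
import Groth.Agent.H88.EtMod.LCAb
import Groth.Agent.H88.EtMod.PBCPresent
import Groth.Agent.Lib.EtJ.PullExact
import Groth.Agent.Lib.FEt.FullyFaithful

/-!
# Affine schemes of characteristic p are K(π,1) for p-torsion coefficients
-/

set_option autoImplicit false
set_option maxHeartbeats 1000000

universe u

open CategoryTheory CategoryTheory.Limits CategoryTheory.Abelian AlgebraicGeometry Opposite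

namespace Groth.Agent.H46.KPi1

open Groth.Agent Groth.Agent.Lib

variable {X Y Z : Scheme.{u}}

theorem exact_pull (f : X ⟶ Y) : PreservesFiniteLimits (EtCoh.pull f) :=
  Lib.EtJ.PullExact.pull_preservesFiniteLimits f

theorem natCast_zero (f : X ⟶ Y) {p : ℕ} (h : (p : Γ(Y, ⊤)) = 0) : (p : Γ(X, ⊤)) = 0 := by
  rw [← map_natCast f.appTop.hom, h, map_zero]

theorem nontrivial_top [Nonempty X] : Nontrivial Γ(X, ⊤) := by
  obtain ⟨x⟩ := ‹Nonempty X›
  exact RingHom.domain_nontrivial (X.presheaf.germ ⊤ x trivial).hom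

/-- An extension of two modules without cohomology has none. -/
theorem subsingleton_middle {S : ShortComplex (EtCoh.Ab X)} (hS : S.ShortExact) (q : ℕ)
    (h₁ : Subsingleton (EtCoh.H X S.X₁ q)) (h₃ : Subsingleton (EtCoh.H X S.X₃ q)) :
    Subsingleton (EtCoh.H X S.X₂ q) := by
  refine subsingleton_of_forall_eq 0 fun x => ?_
  obtain ⟨y, rfl⟩ := Abelian.Ext.covariant_sequence_exact₂ _ hS x (h₃.elim _ _)
  rw [h₁.elim y 0, Abelian.Ext.zero_comp]

theorem subsingleton_of_iso {F G : EtCoh.Ab X} (e : F ≅ G) (q : ℕ)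
    (h : Subsingleton (EtCoh.H X F q)) : Subsingleton (EtCoh.H X G q) :=
  (((EtCoh.HF X q).mapIso e).addCommGroupIsoToAddEquiv.toEquiv.symm.subsingleton_congr).2 h

theorem subsingleton_of_isZero {F : EtCoh.Ab X} (h : IsZero F) (q : ℕ) :
    Subsingleton (EtCoh.H X F q) := by
  refine subsingleton_of_forall_eq 0 fun x => ?_
  rw [← x.comp_mk₀_id, h.eq_of_src (𝟙 F) 0, Ext.mk₀_zero, Ext.comp_zero]

theorem killedBy_pull (f : X ⟶ Y) {n : ℕ} {F : EtCoh.Ab Y} (hk : EtCoh.KilledBy n F) :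
    EtCoh.KilledBy n ((EtCoh.pull f).obj F) := by
  rw [H88.EtMod.PBCPresent.killedBy_iff] at hk ⊢
  rw [← (EtCoh.pull f).map_id, ← Functor.map_nsmul, hk, Functor.map_zero]

/-- Connected finite etale cover cut out of a finite etale surjective one. -/
theorem exists_connected (f : X ⟶ Y) [IsFinite f] [Etale f] [Surjective f] [IsAffine Y]
    [ConnectedSpace Y] :
    ∃ (Z : Scheme.{u}) (i : Z ⟶ X), IsFinite (i ≫ f) ∧ Etale (i ≫ f) ∧ Surjective (i ≫ f) ∧
      IsAffine Z ∧ ConnectedSpace Z := by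
  haveI : IsAffine X := isAffine_of_isAffineHom f
  haveI : Finite (_root_.ConnectedComponents ↥X) := S14382.finite_components f inferInstance
  obtain ⟨y⟩ := (inferInstance : Nonempty Y)
  obtain ⟨x, -⟩ := f.surjective y
  have hop : IsOpen (connectedComponent x) := by
    rw [← connectedComponents_preimage_singleton]
    exact (isOpen_discrete _).preimage ConnectedComponents.continuous_coe
  let U : X.Opens := ⟨connectedComponent x, hop⟩
  haveI : IsClosedImmersion U.ι := .of_isPreimmersion _ (by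
    rw [Scheme.Opens.range_ι]
    exact isClosed_connectedComponent)
  haveI hU : ConnectedSpace (U : Scheme.{u}) :=
    isConnected_iff_connectedSpace.1 (isConnected_connectedComponent (x := x))
  refine ⟨U, U.ι, inferInstance, inferInstance, ⟨fun z => ?_⟩, isAffine_of_isAffineHom U.ι, hU⟩
  have hc : IsClopen (f.base '' (connectedComponent x)) :=
    ⟨f.isClosedMap _ isClosed_connectedComponent, f.isOpenMap _ hop⟩
  have hz : z ∈ f.base '' (connectedComponent x) := by
    rw [hc.eq_univ ⟨_, x, mem_connectedComponent, rfl⟩]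
    exact Set.mem_univ z
  obtain ⟨w, hw, rfl⟩ := hz
  exact ⟨⟨w, hw⟩, rfl⟩

/-- A finite locally constant module killed by p loses its higher cohomology on a cover. -/
theorem exists_cover_prime (p : ℕ) [Fact p.Prime] [IsAffine X] [ConnectedSpace X]
    (hp : (p : Γ(X, ⊤)) = 0) (F : EtCoh.Ab X) (hF : EtCoh.IsFiniteLocallyConstant F)
    (hk : EtCoh.KilledBy p F) :
    ∃ (X' : Scheme.{u}) (g : X' ⟶ X), IsFinite g ∧ Etale g ∧ Surjective g ∧ IsAffine X' ∧
      ConnectedSpace X' ∧ ∀ q, 2 ≤ q → Subsingleton (EtCoh.H X' ((EtCoh.pull g).obj F) q) := by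
  obtain ⟨T, f, hf₁, hf₂, d, hd, hcard, n, G, φ, h0, ⟨eG⟩, hstep⟩ := S0657.result X p F hF hk
  have hd0 : d ≠ 0 := by
    rintro rfl
    exact (Fact.out : p.Prime).ne_one (Nat.coprime_zero_right _ |>.1 hd)
  haveI : Surjective f := ⟨fun x => by
    have h := hcard _ (Lib.FEt.FullyFaithful.geomPt x)
    obtain ⟨⟨t, ht⟩⟩ := (Nat.card_ne_zero.1 (h ▸ hd0)).1
    refine ⟨t.base (IsLocalRing.closedPoint _), ?_⟩
    exact (congrArg (fun m => m.base (IsLocalRing.closedPoint _)) ht).trans
      (Lib.FEt.FullyFaithful.point_geomPt x)⟩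
  obtain ⟨Z, i, h1, h2, h3, h4, h5⟩ := exists_connected f
  refine ⟨Z, i ≫ f, h1, h2, h3, h4, h5, fun q hq => ?_⟩
  haveI := nontrivial_top (X := Z)
  haveI : CharP Γ(Z, ⊤) p :=
    (CharP.charP_iff_prime_eq_zero (Fact.out : p.Prime)).2 (natCast_zero (i ≫ f) hp)
  haveI := exact_pull i
  have key : ∀ j, j ≤ n → Subsingleton (EtCoh.H Z ((EtCoh.pull i).obj (G j)) q) := by
    intro j
    induction j with
    | zero => exact fun _ => subsingleton_of_isZero (Functor.map_isZero _ h0) q
    | succ j ih =>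
      intro hj
      obtain ⟨hm, ⟨e⟩⟩ := hstep j hj
      let S := ShortComplex.mk (φ j) (cokernel.π (φ j)) (cokernel.condition _)
      have hS : S.ShortExact :=
        { exact := ShortComplex.exact_cokernel (φ j), mono_f := hm, epi_g := inferInstance }
      refine subsingleton_middle (hS.map_of_exact (EtCoh.pull i)) q (ih (Nat.le_of_succ_le hj)) ?_
      exact subsingleton_of_iso (((EtCoh.pull i).mapIso e ≪≫ EtCore.pullConst i (ZMod p)).symm) q
        (S0103.result Z p q hq)
  exact subsingleton_of_iso ((EtCoh.pull i).mapIso eG ≪≫ (EtCore.pullComp i f).symm.app F) q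
    (key n le_rfl)

/-- Classes of degree at least two are killed by finite etale covers. -/
theorem exists_cover_killing (p : ℕ) [Fact p.Prime] (q : ℕ) (hq : 2 ≤ q) :
    ∀ (h : ℕ) (X : Scheme.{u}) [IsAffine X] [ConnectedSpace X], (p : Γ(X, ⊤)) = 0 →
      ∀ F : EtCoh.Ab X, EtCoh.IsFiniteLocallyConstant F → EtCoh.KilledBy (p ^ h) F →
      ∀ ζ : EtCoh.H X F q, ∃ (X' : Scheme.{u}) (g : X' ⟶ X), IsFinite g ∧ Etale g ∧ Surjective g ∧
        ∀ [PreservesFiniteLimits (EtCoh.pull g)], EtCore.Hpull g F q ζ = 0 := by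
  intro h
  induction h with
  | zero =>
    intro X _ _ _ F _ hk ζ
    refine ⟨X, 𝟙 X, inferInstance, inferInstance, inferInstance, fun {_} => ?_⟩
    rw [H88.EtMod.PBCPresent.killedBy_iff, pow_zero, one_nsmul] at hk
    rw [(subsingleton_of_isZero ((IsZero.iff_id_eq_zero F).2 hk) q).elim ζ 0, map_zero]
  | succ h ih =>
    intro X _ _ hp F hF hk ζ
    let φ : F ⟶ F := p • 𝟙 F
    let C := cokernel (kernel.ι φ)
    let π : F ⟶ C := cokernel.π (kernel.ι φ)
    let S := ShortComplex.mk (kernel.ι φ) π (cokernel.condition _)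
    have hS : S.ShortExact :=
      { exact := ShortComplex.exact_cokernel _, mono_f := inferInstance, epi_g := inferInstance }
    obtain ⟨hK, -⟩ := H88.EtMod.LCAb.isFiniteLC_kernel_cokernel φ hF hF
    have hC : EtCoh.IsFiniteLocallyConstant C :=
      (H88.EtMod.LCAb.isFiniteLC_kernel_cokernel (kernel.ι φ) hK hF).2
    rw [H88.EtMod.PBCPresent.killedBy_iff] at hk
    have hkK : EtCoh.KilledBy p (kernel φ) := by
      rw [H88.EtMod.PBCPresent.killedBy_iff, ← cancel_mono (kernel.ι φ), Preadditive.nsmul_comp,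
        Category.id_comp, zero_comp]
      have := kernel.condition φ
      rwa [Preadditive.comp_nsmul, Category.comp_id] at this
    have hkC : EtCoh.KilledBy (p ^ h) C := by
      rw [H88.EtMod.PBCPresent.killedBy_iff, ← cancel_epi π, Preadditive.comp_nsmul,
        Category.comp_id, comp_zero]
      have hz : (p ^ h • 𝟙 F) ≫ φ = 0 := by
        simp only [φ, Preadditive.comp_nsmul, Category.comp_id]
        rw [← mul_nsmul, mul_comm (p ^ h) p, ← pow_succ', hk]
      calc p ^ h • π = (p ^ h • 𝟙 F) ≫ π := by rw [Preadditive.nsmul_comp, Category.id_comp]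
        _ = (kernel.lift φ _ hz ≫ kernel.ι φ) ≫ π := by rw [kernel.lift_ι]
        _ = 0 := by rw [Category.assoc, cokernel.condition, comp_zero]
    obtain ⟨X₁, g₁, a1, a2, a3, hC0⟩ := ih X hp C hC hkC (((EtCoh.HF X q).map π).hom ζ)
    obtain ⟨X₂, i, b1, b2, b3, b4, b5⟩ := exists_connected g₁
    haveI := exact_pull g₁
    haveI := exact_pull i
    haveI := exact_pull (i ≫ g₁)
    have hC2 : EtCore.Hpull (i ≫ g₁) C q (((EtCoh.HF X q).map π).hom ζ) = 0 := by
      rw [← H61.HmapFunct.via_split i g₁ (i ≫ g₁) rfl q C, hC0, map_zero]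
      exact map_zero _
    rw [H61.HpullFunct.Hpull_map] at hC2
    obtain ⟨ξ, hξ⟩ := Abelian.Ext.covariant_sequence_exact₂ _ (hS.map_of_exact (EtCoh.pull (i ≫ g₁)))
      (EtCore.Hpull (i ≫ g₁) F q ζ) hC2
    obtain ⟨X₃, g₃, c1, c2, c3, -, -, hvan⟩ := exists_cover_prime p (natCast_zero (i ≫ g₁) hp)
      ((EtCoh.pull (i ≫ g₁)).obj (kernel φ)) (H88.EtMod.LCAb.isFiniteLC_pull _ hK)
      (killedBy_pull _ hkK)
    haveI := exact_pull g₃
    refine ⟨X₃, g₃ ≫ i ≫ g₁, inferInstance, inferInstance, inferInstance, fun {_} => ?_⟩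
    have hmap : EtCore.Hpull g₃ _ q (EtCore.Hpull (i ≫ g₁) F q ζ) = 0 := by
      rw [← hξ]
      show EtCore.Hpull g₃ _ q (((EtCoh.HF X₂ q).map
        ((EtCoh.pull (i ≫ g₁)).map (kernel.ι φ))).hom ξ) = 0
      rw [H61.HpullFunct.Hpull_map, (hvan q hq).elim (EtCore.Hpull g₃ _ q ξ) 0]
      exact map_zero _
    rw [← H61.HmapFunct.via_split g₃ (i ≫ g₁) (g₃ ≫ i ≫ g₁) rfl q F, hmap]
    exact map_zero _

end Groth.Agent.H46.KPi1
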